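import Cfsg.Agent.Spider3.Data

/-!
In a group satisfying the Y₅₃₂ Coxeter relations and the spider relation, the end node of the long arm
is the ninth power of the Coxeter element of the E₇ subgraph.
-/

set_option autoImplicit false

namespace Cfsg.Agent.Spider3

variable {G : Type*} [Group G]

theorem eq_one_of_braid_centralize {b c m β : G} (hb : b * b = 1) (hc : c * c = 1)
    (hbraid : b * c * b = c * b * c) (hm : Commute c m) (hm' : Commute c (b * m * b))
    (h : b * m * b = m * β) : β = 1 := by
  have e1 : c * b * m * b * c = b * m * b := by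
    calc c * b * m * b * c = c * (b * m * b) * c := by group
      _ = (b * m * b) * (c * c) := by rw [hm'.eq, mul_assoc]
      _ = b * m * b := by rw [hc, mul_one]
  have e2 : (b * c * b) * m * (b * c * b) = m := by
    calc (b * c * b) * m * (b * c * b) = b * (c * b * m * b * c) * b := by group
      _ = b * (b * m * b) * b := by rw [e1]
      _ = (b * b) * m * (b * b) := by group
      _ = m := by rw [hb, one_mul, mul_one]
  have e3 : c * m * c = m := by rw [hm.eq, mul_assoc, hc, mul_one]
  have e4 : c * (b * m * b) * c = m := by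
    calc c * (b * m * b) * c = c * b * (c * m * c) * b * c := by rw [e3]; group
      _ = (c * b * c) * m * (c * b * c) := by group
      _ = m := by rw [← hbraid, e2]
  have e5 : b * m * b = m := by
    calc b * m * b = c * b * m * b * c := e1.symm
      _ = c * (b * m * b) * c := by group
      _ = m := e4
  rw [e5] at h
  exact mul_left_cancel (a := m) (by rw [mul_one]; exact h.symm)

theorem Model.ev_conj_one (M : Model G) {g r : List ℕ} (h : M.ev r = 1) :
    M.ev (g ++ r ++ g.reverse) = 1 := by
  simp [M.ev_append, M.ev_reverse, h]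

theorem Model.ev_palin (M : Model G) {r : List ℕ} (h : r.reverse = r) : M.ev r * M.ev r = 1 := by
  have := M.ev_reverse r
  rw [h] at this
  nth_rw 2 [this]
  simp

theorem key (M : Model G) (hsp : M.ev SP = 1) : M.x 5 = M.ev F12 := by
  have hF : M.ev F12 * M.ev F12 = 1 := by
    have := M.ev_eq_of_check _ _ _ okF12sq
    simpa [M.ev_append, M.ev_nil] using this
  have hKA : M.ev KA = 1 := by
    simp only [KA, M.ev_append, M.ev_reverse, hsp, inv_one, mul_one, mul_inv_cancel]
  have h13 : M.ev F13 = M.ev F12 := by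
    have h := M.ev_eq_of_check _ _ _ okA
    simp only [M.ev_append, M.ev_reverse, hKA, inv_one, one_mul, mul_one] at h
    rw [M.ev_palin (r := r12) (by decide)] at h
    exact (eq_inv_of_mul_eq_one_left h).trans (eq_inv_of_mul_eq_one_left hF).symm
  have hT2 : M.ev T2 = 1 := by
    have h := M.ev_eq_of_check _ _ _ okA2
    simp only [M.ev_append, h13, M.ev_single] at h
    rw [h, hF]
    simp [mul_assoc, hF, M.sq]
  have hKP : M.ev KP = 1 := by simp only [KP, M.ev_nil, M.ev_append, M.ev_reverse, hT2, inv_one, mul_one, mul_inv_cancel]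
  have root_eq : ∀ {pre K root : List ℕ} {cs},
      check (gD ++ pre ++ gD.reverse ++ (K ++ root ++ K.reverse).reverse) cs = true →
      M.ev K = 1 → M.ev root = M.ev gD * M.ev pre * (M.ev gD)⁻¹ := by
    intro pre K root cs h hK
    have := M.ev_eq_of_check _ _ _ h
    simp only [M.ev_append, M.ev_reverse, hK, inv_one, one_mul, mul_one] at this
    exact this.symm
  have hP : M.ev (pre0 ++ pre1 ++ pre2 ++ pre3 ++ pre4 ++ pre5 ++ pre6 ++ pre7) = 1 :=
    (M.ev_eq_of_check _ _ _ okDP).trans hKP
  have hZ : M.ev Zw = 1 := by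
    rw [M.ev_eq_of_check _ _ _ okDZ]
    simp only [M.ev_append] at hP ⊢
    rw [root_eq okD0 (by simp only [KD0, M.ev_nil, M.ev_append, M.ev_reverse, hT2, inv_one, mul_one, mul_inv_cancel]),
      root_eq okD1 (by simp only [KD1, M.ev_nil, M.ev_append, M.ev_reverse, hT2, inv_one, mul_one, mul_inv_cancel]),
      root_eq okD2 (by simp only [KD2, M.ev_nil, M.ev_append, M.ev_reverse, hT2, inv_one, mul_one, mul_inv_cancel]),
      root_eq okD3 (by simp only [KD3, M.ev_nil, M.ev_append, M.ev_reverse, hT2, inv_one, mul_one, mul_inv_cancel]),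
      root_eq okD4 (by simp only [KD4, M.ev_nil, M.ev_append, M.ev_reverse, hT2, inv_one, mul_one, mul_inv_cancel]),
      root_eq okD5 (by simp only [KD5, M.ev_nil, M.ev_append, M.ev_reverse, hT2, inv_one, mul_one, mul_inv_cancel]),
      root_eq okD6 (by simp only [KD6, M.ev_nil, M.ev_append, M.ev_reverse, hT2, inv_one, mul_one, mul_inv_cancel]),
      root_eq okD7 (by simp only [KD7, M.ev_nil, M.ev_append, M.ev_reverse, hT2, inv_one, mul_one, mul_inv_cancel])]
    calc _ = M.ev gD * (M.ev pre0 * M.ev pre1 * M.ev pre2 * M.ev pre3 * M.ev pre4 * M.ev pre5 *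
          M.ev pre6 * M.ev pre7) * (M.ev gD)⁻¹ := by group
      _ = 1 := by rw [hP, mul_one, mul_inv_cancel]
  have hr8 : M.ev r8 = M.ev F12 := by
    have h := M.ev_eq_of_check _ _ _ okE1
    rw [hZ, M.ev_append] at h
    have := eq_inv_of_mul_eq_one_right h.symm
    rw [this, ← eq_inv_of_mul_eq_one_left hF]
  have ht : M.ev tw = M.x 5 * M.ev F12 := by simp [tw, M.ev_cons, hr8]
  have huu : M.ev tw * M.ev tw = 1 := by
    have h := M.ev_eq_of_check _ _ _ okE2
    simp only [M.ev_append, M.ev_single, M.ev_nil] at h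
    rw [ht, ← h]
    group
  have hcf : Commute (M.x 10) (M.ev F12) := by
    have h := M.ev_eq_of_check _ _ _ okE3
    simp only [M.ev_append, M.ev_single, M.ev_nil, h13] at h
    show M.x 10 * M.ev F12 = M.ev F12 * M.x 10
    have h' := eq_inv_of_mul_eq_one_left h
    have hinv : M.x 10 * M.ev F12 * M.x 10 = M.ev F12 :=
      h'.trans (eq_inv_of_mul_eq_one_left hF).symm
    calc M.x 10 * M.ev F12 = M.x 10 * M.ev F12 * (M.x 10 * M.x 10) := by rw [M.sq, mul_one]
      _ = M.x 10 * M.ev F12 * M.x 10 * M.x 10 := by group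
      _ = M.ev F12 * M.x 10 := by rw [hinv]
  have hct : Commute (M.x 10) (M.ev tw) := by
    rw [ht]
    exact Commute.mul_right (M.comm 10 5 (by norm_num) (by norm_num) (by decide)) hcf
  have hk : ∀ {k : List ℕ} {cs}, check (([10] ++ k) ++ (k ++ [10]).reverse) cs = true →
      Commute (M.x 10) (M.ev k) := by
    intro k cs h
    have := M.ev_eq_of_check _ _ _ h
    simp only [M.ev_append, M.ev_single] at this
    exact this
  have c0 := hk okK0
  have c1 := hk okK1
  have c2 := hk okK2
  have c3 := hk okK3
  have c4 := hk okK4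
  have c5 := hk okK5
  have c6 := hk okK6
  have c7 := hk okK7
  have hrhs : Commute (M.x 10) (M.ev rhs) := by
    simp only [rhs, M.ev_append, M.ev_reverse]
    repeat' first
      | assumption
      | apply Commute.mul_right
      | apply Commute.inv_right
  have hbb : M.ev bw * M.ev bw = 1 := by
    calc M.ev bw * M.ev bw
        = M.ev gE * (M.ev tw * M.ev tw) * (M.ev gE)⁻¹ := by
          simp [bw, M.ev_append, M.ev_reverse, mul_assoc]
      _ = 1 := by rw [huu, mul_one, mul_inv_cancel]
  have hcb : Commute (M.x 10) (M.ev bw) := by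
    have h := M.ev_eq_of_check _ _ _ okE4
    simp only [M.ev_append, hbb, one_mul] at h
    rwa [h]
  have h5 : M.x 9 * M.ev mw * M.x 9 = M.ev mw * (M.ev bw)⁻¹ := by
    have h := M.ev_eq_of_check _ _ _ okE5
    simp only [M.ev_append, M.ev_single, M.ev_reverse] at h
    exact h
  have hcm : Commute (M.x 10) (M.ev mw) := by
    simp only [mw, M.ev_append, M.ev_reverse]
    exact (c5.mul_right hct).mul_right c5.inv_right
  have hb1 : M.ev bw = 1 := by
    have := eq_one_of_braid_centralize (M.sq 9) (M.sq 10) (M.braid 9 10 (by decide)) hcm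
      (by rw [h5]; exact hcm.mul_right hcb.inv_right) h5
    simpa using this
  have htw : M.ev tw = 1 := by
    simp only [bw, M.ev_append, M.ev_reverse] at hb1
    simpa [mul_inv_eq_one] using hb1
  rw [ht] at htw
  rw [eq_inv_of_mul_eq_one_left htw, ← eq_inv_of_mul_eq_one_left hF]

end Cfsg.Agent.Spider3
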