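import Mathlib

/-!
Checker for word equalities in a group generated by involutions indexed by a Coxeter graph
(all labels two or three).
-/

set_option autoImplicit false

namespace Cfsg.Agent.Spider3

/-- Adjacency in the graph Y₅₃₂, nodes numbered a, b1, c1, d1, e1, f1, b2, c2, d2, b3, c3. -/
def adjBits : List (ℕ × ℕ) :=
  [(0, 1), (1, 2), (2, 3), (3, 4), (4, 5), (0, 6), (6, 7), (7, 8), (0, 9), (9, 10)]

def edgeB (x y : ℕ) : Bool :=
  adjBits.any fun e => (Nat.beq e.1 x && Nat.beq e.2 y) || (Nat.beq e.1 y && Nat.beq e.2 x)

/-- Zipper state: the reversed prefix and the suffix. -/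
abbrev St := List ℕ × List ℕ

def step (op : ℕ) : St → Option St
  | (L, R) =>
    match op with
    | 0 => match R with
      | x :: R' => some (x :: L, R')
      | [] => none
    | 1 => match L with
      | x :: L' => some (L', x :: R)
      | [] => none
    | 2 => match L with
      | x :: y :: L' => if Nat.beq x y then some (L', R) else none
      | _ => none
    | 3 => match L with
      | x :: y :: L' =>
        if Nat.blt x 11 && Nat.blt y 11 && !(edgeB x y) then some (y :: x :: L', R) else none
      | _ => none
    | 4 => match L with
      | x :: y :: z :: L' =>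
        if Nat.beq x z && edgeB x y then some (y :: x :: y :: L', R) else none
      | _ => none
    | _ => none

def runChunk : ℕ → ℕ → St → Option St
  | 0, _, s => some s
  | n + 1, c, s => match step (c % 8) s with
    | some s' => runChunk n (c / 8) s'
    | none => none

def run : List (ℕ × ℕ) → St → Option St
  | [], s => some s
  | (n, c) :: cs, s => match runChunk n c s with
    | some s' => run cs s'
    | none => none

def check (w : List ℕ) (cs : List (ℕ × ℕ)) : Bool :=
  match run cs ([], w) with
  | some ([], []) => true
  | _ => false

/-- A family of involutions satisfying the relations of the graph Y₅₃₂. -/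
structure Model (G : Type*) [Group G] where
  x : ℕ → G
  sq : ∀ i, x i * x i = 1
  comm : ∀ i j, i < 11 → j < 11 → edgeB i j = false → x i * x j = x j * x i
  braid : ∀ i j, edgeB i j = true → x i * x j * x i = x j * x i * x j

variable {G : Type*} [Group G]

def Model.ev (M : Model G) (w : List ℕ) : G := (w.map M.x).prod

theorem Model.ev_append (M : Model G) (u v : List ℕ) : M.ev (u ++ v) = M.ev u * M.ev v := by
  simp [Model.ev]

theorem Model.ev_nil (M : Model G) : M.ev [] = 1 := rfl

theorem Model.ev_cons (M : Model G) (i : ℕ) (u : List ℕ) : M.ev (i :: u) = M.x i * M.ev u := by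
  simp [Model.ev]

theorem Model.ev_single (M : Model G) (i : ℕ) : M.ev [i] = M.x i := by
  simp [Model.ev]

theorem Model.ev_reverse (M : Model G) (u : List ℕ) : M.ev u.reverse = (M.ev u)⁻¹ := by
  induction u with
  | nil => simp [Model.ev]
  | cons i u ih =>
    rw [List.reverse_cons, M.ev_append, M.ev_single, M.ev_cons, ih, mul_inv_rev]
    congr 1
    exact eq_inv_of_mul_eq_one_left (M.sq i)

/-- The value of a state. -/
def Model.val (M : Model G) (s : St) : G := M.ev s.1.reverse * M.ev s.2

theorem step_sound (M : Model G) (op : ℕ) (s t : St) (h : step op s = some t) :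
    M.val t = M.val s := by
  obtain ⟨L, R⟩ := s
  rcases op with _ | _ | _ | _ | _ | op
  · cases R with
    | nil => simp [step] at h
    | cons x R' =>
      simp only [step, Option.some.injEq] at h
      subst h
      simp [Model.val, Model.ev_append, Model.ev_cons, Model.ev_nil, mul_assoc]
  · cases L with
    | nil => simp [step] at h
    | cons x L' =>
      simp only [step, Option.some.injEq] at h
      subst h
      simp [Model.val, Model.ev_append, Model.ev_cons, Model.ev_nil, mul_assoc]
  · rcases L with _ | ⟨x, _ | ⟨y, L'⟩⟩ <;> simp only [step, reduceCtorEq] at h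
    split at h
    · rename_i hc
      simp only [Option.some.injEq] at h
      subst h
      obtain rfl : x = y := Nat.eq_of_beq_eq_true hc
      simp only [Model.val, List.reverse_cons, Model.ev_append, Model.ev_cons, Model.ev_nil, mul_one]
      rw [mul_assoc (M.ev L'.reverse) (M.x x) (M.x x), M.sq, mul_one]
    · simp at h
  · rcases L with _ | ⟨x, _ | ⟨y, L'⟩⟩ <;> simp only [step, reduceCtorEq] at h
    split at h
    · rename_i hc
      simp only [Option.some.injEq] at h
      subst h
      simp only [Bool.and_eq_true, Nat.blt_eq, Bool.not_eq_true'] at hc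
      have hc' := M.comm x y hc.1.1 hc.1.2 hc.2
      simp [Model.val, Model.ev_append, Model.ev_cons, Model.ev_nil, mul_assoc]
      rw [← mul_assoc (M.x x), hc', mul_assoc]
    · simp at h
  · rcases L with _ | ⟨x, _ | ⟨y, _ | ⟨z, L'⟩⟩⟩ <;> simp only [step, reduceCtorEq] at h
    split at h
    · rename_i hc
      simp only [Option.some.injEq] at h
      subst h
      simp only [Bool.and_eq_true] at hc
      obtain rfl : x = z := Nat.eq_of_beq_eq_true hc.1
      have hb := M.braid x y hc.2
      simp [Model.val, Model.ev_append, Model.ev_cons, Model.ev_nil, mul_assoc]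
      rw [← mul_assoc (M.x y), ← mul_assoc (M.x y * M.x x), ← hb]
      simp [mul_assoc]
    · simp at h
  · simp [step] at h

theorem runChunk_sound (M : Model G) : ∀ n c s t, runChunk n c s = some t → M.val t = M.val s
  | 0, c, s, t, h => by
    simp only [runChunk, Option.some.injEq] at h
    rw [h]
  | n + 1, c, s, t, h => by
    simp only [runChunk] at h
    split at h
    · rename_i s' hs
      rw [runChunk_sound M n _ _ _ h, step_sound M _ _ _ hs]
    · simp at h

theorem run_sound (M : Model G) : ∀ cs s t, run cs s = some t → M.val t = M.val s
  | [], s, t, h => by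
    simp only [run, Option.some.injEq] at h
    rw [h]
  | (n, c) :: cs, s, t, h => by
    simp only [run] at h
    split at h
    · rename_i s' hs
      rw [run_sound M cs _ _ h, runChunk_sound M _ _ _ _ hs]
    · simp at h

theorem Model.ev_eq_of_check (M : Model G) (u v : List ℕ) (cs : List (ℕ × ℕ))
    (h : check (u ++ v.reverse) cs = true) : M.ev u = M.ev v := by
  unfold check at h
  split at h
  · rename_i hs
    have := run_sound M cs _ _ hs
    simp [Model.val, M.ev_nil, M.ev_append, M.ev_reverse] at this
    exact eq_of_mul_inv_eq_one this.symm
  · simp at h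

end Cfsg.Agent.Spider3
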